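import Groth.Agent.LocalDimBC.Smooth
import Groth.Agent.CMChart.OverField
import Groth.Agent.CurveRR.Curve
import Groth.Agent.W7Cover.Basic

/-!
A smooth integral curve over a field is smooth of relative dimension one.
-/

set_option autoImplicit false
set_option linter.style.haveILetI false
set_option backward.isDefEq.respectTransparency false
set_option backward.isDefEq.respectTransparency.types false

universe u

open CategoryTheory CategoryTheory.Limits AlgebraicGeometry TopologicalSpace Opposite

noncomputable section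

namespace Groth.Agent.AlgEquivCurve

theorem smoothOfRelativeDimension_one {k : Type u} [Field k] {C : Scheme.{u}} [IsIntegral C]
    (p : C ⟶ Spec (CommRingCat.of k)) [Smooth p] (hdim : topologicalKrullDim C = 1) :
    SmoothOfRelativeDimension 1 p := by
  haveI : JacobsonSpace C := LocallyOfFiniteType.jacobsonSpace p
  have hloc : ∀ x : C, FlatMor.localDim C x = ((1 : ℕ) : WithBot ℕ∞) := fun x => by
    refine le_antisymm ?_ ((CMChart.natCast_le_localDim x).mpr fun U hU => ?_)
    · rw [FlatMor.localDim]
      refine (iInf_le _ (⟨⊤, trivial⟩ : {U : TopologicalSpace.Opens C // x ∈ U})).trans ?_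
      exact (topologicalKrullDim_subspace_le C _).trans (hdim.le.trans (le_of_eq Nat.cast_one.symm))
    · obtain ⟨z, hzU, hz⟩ := nonempty_inter_closedPoints (X := C) (Z := (U : Set C)) ⟨x, hU⟩ U.2.isLocallyClosed
      have hne : genericPoint C ≠ z := by
        intro e
        have hc : IsClosed ({genericPoint C} : Set C) := by rw [e]; exact hz
        have h1 : (Set.univ : Set C) ⊆ {genericPoint C} := fun w _ => (genericPoint_specializes w).mem_closed hc rfl
        haveI : Subsingleton C := ⟨fun a b => (h1 (Set.mem_univ a) : a = genericPoint C).trans (h1 (Set.mem_univ b) : b = genericPoint C).symm⟩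
        have h3 := topologicalKrullDim_zero_of_discreteTopology C
        rw [hdim] at h3
        exact absurd h3 (by norm_num)
      refine ⟨![genericPoint C, z], fun i => ?_, fun i => ?_⟩
      · fin_cases i
        · exact (genericPoint_specializes z).mem_open U.2 hzU
        · exact hzU
      · fin_cases i
        exact ⟨genericPoint_specializes z, hne⟩
  refine ⟨fun x => ?_⟩
  obtain ⟨V, hV, U, hU, hxU, e, hstd⟩ := Smooth.exists_isStandardSmooth p x
  refine ⟨V, hV, U, hU, hxU, e, ?_⟩
  algebraize [(p.appLE V U e).hom]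
  obtain ⟨ι, σ, hσ, hι, ⟨P⟩⟩ := ‹Algebra.IsStandardSmooth Γ(Spec (CommRingCat.of k), V) Γ(C, U)›
  haveI : Algebra.IsStandardSmoothOfRelativeDimension P.dimension Γ(Spec (CommRingCat.of k), V) Γ(C, U) :=
    ⟨ι, σ, hσ, hι, P, rfl⟩
  suffices h : P.dimension = 1 by
    rw [← h]
    exact ‹Algebra.IsStandardSmoothOfRelativeDimension P.dimension Γ(Spec (CommRingCat.of k), V) Γ(C, U)›
  obtain ⟨z, hz⟩ : x ∈ Set.range hU.fromSpec := hU.range_fromSpec.ge hxU
  have h1 := LocalDimBC.fibreDimAt_Spec_of_isStandardSmooth P.dimension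
    (R := Γ(Spec (CommRingCat.of k), V)) (A := Γ(C, U)) z
  have h2 : FlatMor.fibreDimAt (Spec.map (CommRingCat.ofHom
      (algebraMap Γ(Spec (CommRingCat.of k), V) Γ(C, U)))) z = FlatMor.fibreDimAt p x := by
    rw [← hz, ← LocalDimBC.fibreDimAt_openImmersion_comp hU.fromSpec p z,
      ← IsAffineOpen.SpecMap_appLE_fromSpec p hV hU e, ← LocalDimBC.fibreDimAt_comp_openImmersion]
    rfl
  rw [h2, CMChart.fibreDimAt_eq_localDim, hloc] at h1
  exact_mod_cast h1.symm

end Groth.Agent.AlgEquivCurve
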