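import Groth.Agent.SectCartier.Basic
import Groth.Agent.AlgEquivCurve.RelDim
import Groth.Agent.Nakai.PullIdeal
import Groth.Agent.Nakai.FibreDeg
import Groth.Agent.CurveRR.SmoothPt
import Groth.Agent.W7OnePole.ClosedPoint
import Groth.Agent.S8914
import Groth.Agent.PicBdd.TauBdd

/-!
On a smooth curve over an algebraically closed field the differences of two points are algebraically
equivalent to zero.
-/

set_option autoImplicit false
set_option linter.style.haveILetI false
set_option backward.isDefEq.respectTransparency false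
set_option backward.isDefEq.respectTransparency.types false

universe u

open CategoryTheory CategoryTheory.Limits AlgebraicGeometry TopologicalSpace Opposite
open Groth.Agent

noncomputable section

namespace Groth.Agent.AlgEquivCurve

attribute [local instance] Nakai.clMonoid

variable {k : Type u} [Field k] [IsAlgClosed k] {C : Scheme.{u}} [C.Over (Spec (CommRingCat.of k))]
  [IsProper (C ↘ Spec (CommRingCat.of k))] [IsIntegral C] [Smooth (C ↘ Spec (CommRingCat.of k))]

/-- The ideal of the graph of a point is the ideal of the point. -/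
theorem ker_diagonal_comap_slice (t : Spec (CommRingCat.of k) ⟶ C)
    (ht : t ≫ (C ↘ Spec (CommRingCat.of k)) = 𝟙 _) {Q : C} (hQ : IsClosed ({Q} : Set C)) (htQ : ∀ w, t w = Q) :
    (pullback.diagonal (C ↘ Spec (CommRingCat.of k))).ker.comap
        (Pic13.sliceAt k C (C ↘ Spec (CommRingCat.of k)) t ht) =
      Scheme.IdealSheafData.vanishingIdeal ⟨{Q}, hQ⟩ := by
  set p := C ↘ Spec (CommRingCat.of k)
  let s := Pic13.sliceAt k C p t ht
  have hs1 : s ≫ pullback.fst p p = 𝟙 C := pullback.lift_fst _ _ _
  have hs2 : s ≫ pullback.snd p p = p ≫ t := pullback.lift_snd _ _ _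
  have hd1 : pullback.diagonal p ≫ pullback.fst p p = 𝟙 C := pullback.diagonal_fst p
  have hd2 : pullback.diagonal p ≫ pullback.snd p p = 𝟙 C := pullback.diagonal_snd p
  have w : t ≫ pullback.diagonal p = t ≫ s := by
    refine pullback.hom_ext ?_ ?_
    · rw [Category.assoc, Category.assoc, hd1, hs1]
    · rw [Category.assoc, Category.assoc, hd2, hs2, ← Category.assoc, ht, Category.id_comp, Category.comp_id]
  have H : IsPullback t t (pullback.diagonal p) s := by
    refine IsPullback.of_isLimit' ⟨w⟩ (PullbackCone.IsLimit.mk w (fun c => c.snd ≫ p) (fun c => ?_) (fun c => ?_)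
      (fun c m h1 h2 => ?_))
    · have e1 := congrArg (· ≫ pullback.snd p p) c.condition
      simp only [Category.assoc, hd2, hs2, Category.comp_id] at e1
      rw [Category.assoc, ← e1]
    · have e1 := congrArg (· ≫ pullback.fst p p) c.condition
      have e2 := congrArg (· ≫ pullback.snd p p) c.condition
      simp only [Category.assoc, hd1, hd2, hs1, hs2, Category.comp_id] at e1 e2
      rw [Category.assoc, ← e2, e1]
    · rw [← h2, Category.assoc, ht, Category.comp_id]
  haveI : IsClosedImmersion (t ≫ p) := by rw [ht]; infer_instance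
  haveI : IsClosedImmersion t := IsClosedImmersion.of_comp t p
  rw [← AlmostBlow.ker_of_isPullback H, Nakai.ker_eq_vanishingIdeal t]
  refine congrArg _ (Closeds.ext ?_)
  rw [Scheme.Hom.support_ker]
  have hr : Set.range t = {Q} := by
    haveI : Nonempty ↑(Spec (CommRingCat.of k)) := inferInstanceAs (Nonempty (PrimeSpectrum k))
    ext z
    exact ⟨fun ⟨w', hw'⟩ => hw' ▸ htQ w', fun hz => ⟨Classical.arbitrary _, (htQ _).trans hz.symm⟩⟩
  show closure (Set.range t) = _
  rw [hr, hQ.closure_eq]
  rfl

/-- The difference of two points. -/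
theorem isAlgEquivZero_point_sub_point (hdim : topologicalKrullDim C = 1) (P Q : C)
    (hP : IsClosed ({P} : Set C)) (hQ : IsClosed ({Q} : Set C)) {J : C.Modules} (hJ : PicF.IsInvertible J)
    (θ : CohB1.tensorMod (ClSub.idealMod (Scheme.IdealSheafData.vanishingIdeal ⟨{P}, hP⟩)) J ≅
      Coh.structureModule C) :
    Pic13.IsAlgEquivZero k C
      (CohB1.tensorMod (ClSub.idealMod (Scheme.IdealSheafData.vanishingIdeal ⟨{Q}, hQ⟩)) J) := by
  haveI := CurveRR.isNoetherian_of_proper k C
  set p := C ↘ Spec (CommRingCat.of k) with hp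
  haveI : ConnectedSpace C := inferInstance
  haveI := smoothOfRelativeDimension_one p hdim
  haveI := smoothOfRelativeDimension_isStableUnderBaseChange.{u} 1
  haveI : SmoothOfRelativeDimension 1 (pullback.fst p p) :=
    MorphismProperty.pullback_fst (P := @SmoothOfRelativeDimension.{u} 1) p p inferInstance
  have hΔ := SectCartier.isEffCartierIdeal_ker (pullback.fst p p) (pullback.diagonal p) (pullback.diagonal_fst p)
  let M : (Pic13.prodK k C p).Modules := ClSub.idealMod (pullback.diagonal p).ker
  have hM : PicF.IsInvertible M := (Groth.Agent.S8914.result _).mpr hΔ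
  have hfib : ∀ (R : C) (hR : IsClosed ({R} : Set C)),
      ∃ (t : Spec (CommRingCat.of k) ⟶ C) (ht : t ≫ p = 𝟙 _), Nonempty (Pic13.fibreMod k C p t ht M ≅
        ClSub.idealMod (Scheme.IdealSheafData.vanishingIdeal ⟨{R}, hR⟩)) := by
    intro R hR
    obtain ⟨t, ht, htR⟩ := W7OnePole.exists_section_of_closed p hR
    have hI := CurveRR.isInvertible_pointIdeal hdim.le hR (CurveRR.genericPoint_ne_of_closed (k := k) hdim hR)
      (SmLocalST.isRegularLocalRing_stalk_of_smooth_field p R)
    have hc : BlowUp.IsEffCartierIdeal ((pullback.diagonal p).ker.comap (Pic13.sliceAt k C p t ht)) := by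
      rw [ker_diagonal_comap_slice t ht hR htR]
      exact (Groth.Agent.S8914.result _).mp hI
    obtain ⟨e⟩ := Nakai.nonempty_pullback_idealMod (Pic13.sliceAt k C p t ht) hΔ hc
    exact ⟨t, ht, ⟨e ≪≫ eqToIso (congrArg ClSub.idealMod (ker_diagonal_comap_slice t ht hR htR))⟩⟩
  obtain ⟨t, ht, hQi⟩ := hfib Q hQ
  obtain ⟨t₀, ht₀, hPi⟩ := hfib P hP
  exact PicBdd.isAlgEquivZero_of_family k (qW := p) hM t t₀ ht ht₀ hJ hQi hPi (Nakai.cl_tensor _ _).symm
    (Nakai.cl_inv ⟨θ⟩)

end Groth.Agent.AlgEquivCurve
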