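import Groth.Agent.PicBdd.TauBdd
import Groth.Agent.Rigid.FibreTranslate
import Groth.Agent.ParaFLib.Ext

/-!
Modules algebraically equivalent to zero are closed under tensor products.
-/

set_option autoImplicit false
set_option linter.style.haveILetI false
set_option backward.isDefEq.respectTransparency false
set_option backward.isDefEq.respectTransparency.types false

universe u

open CategoryTheory CategoryTheory.Limits AlgebraicGeometry TopologicalSpace Opposite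
open Groth.Agent

noncomputable section

namespace Groth.Agent.AlgEquivCurve

variable {k : Type u} [Field k] {X : Scheme.{u}} [X.Over (Spec (CommRingCat.of k))]

theorem isAlgEquivZero_congr {L L' : X.Modules} (e : L ≅ L') (h : Pic13.IsAlgEquivZero k X L) :
    Pic13.IsAlgEquivZero k X L' := by
  obtain ⟨Z, q, hZ, hlft, hqc, M, hM, t, t₀, ht, ht₀, ⟨i⟩, h0⟩ := h
  exact ⟨Z, q, hZ, hlft, hqc, M, hM, t, t₀, ht, ht₀, ⟨i ≪≫ e⟩, h0⟩

theorem isAlgEquivZero_tensor {L L' : X.Modules} (h : Pic13.IsAlgEquivZero k X L)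
    (h' : Pic13.IsAlgEquivZero k X L') : Pic13.IsAlgEquivZero k X (CohB1.tensorMod L L') := by
  obtain ⟨T, q, hT, hlft, hqc, M, hM, t, t₀, ht, ht₀, ⟨e⟩, ⟨e₀⟩⟩ := h
  obtain ⟨T', q', hT', hlft', hqc', M', hM', s, s₀, hs, hs₀, ⟨f⟩, ⟨f₀⟩⟩ := h'
  haveI := hT; haveI := hT'; haveI := hlft; haveI := hlft'; haveI := hqc; haveI := hqc'
  haveI : GeometricallyConnected q' := Rigid.geometricallyConnected_of_section q' s₀ hs₀
  let W := pullback q q'
  let qW : W ⟶ Spec (CommRingCat.of k) := pullback.fst q q' ≫ q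
  have hW : pullback.snd q q' ≫ q' = qW := pullback.condition.symm
  haveI : ConnectedSpace W := inferInstance
  let M₁ := (Scheme.Modules.pullback (PicBdd.prodMap k (X := X) (pullback.fst q q') (q' := qW) rfl)).obj M
  let M₂ := (Scheme.Modules.pullback (PicBdd.prodMap k (X := X) (pullback.snd q q') hW)).obj M'
  have key : ∀ (a : Spec (CommRingCat.of k) ⟶ T) (ha : a ≫ q = 𝟙 _) (b : Spec (CommRingCat.of k) ⟶ T')
      (hb : b ≫ q' = 𝟙 _) (A B : X.Modules), (Pic13.fibreMod k X q a ha M ≅ A) →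
      (Pic13.fibreMod k X q' b hb M' ≅ B) →
      ∃ (w : Spec (CommRingCat.of k) ⟶ W) (hw : w ≫ qW = 𝟙 _),
        Nonempty (Pic13.fibreMod k X qW w hw (CohB1.tensorMod M₁ M₂) ≅ CohB1.tensorMod A B) := by
    intro a ha b hb A B eA eB
    let w : Spec (CommRingCat.of k) ⟶ W := pullback.lift a b (ha.trans hb.symm)
    have hw : w ≫ qW = 𝟙 _ := by simp only [w, qW, pullback.lift_fst_assoc, ha]
    have h1 : w ≫ pullback.fst q q' = a := pullback.lift_fst _ _ _
    have h2 : w ≫ pullback.snd q q' = b := pullback.lift_snd _ _ _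
    have congr_pt : ∀ {T₁ : Scheme.{u}} (q₁ : T₁ ⟶ Spec (CommRingCat.of k)) (c d : Spec (CommRingCat.of k) ⟶ T₁)
        (hc : c ≫ q₁ = 𝟙 _) (hd : d ≫ q₁ = 𝟙 _) (F : (Pic13.prodK k X q₁).Modules), c = d →
        Nonempty (Pic13.fibreMod k X q₁ c hc F ≅ Pic13.fibreMod k X q₁ d hd F) := by
      rintro T₁ q₁ c d hc hd F rfl
      exact ⟨Iso.refl _⟩
    obtain ⟨u⟩ := TMul.nonempty_pullTensorIso (Pic13.sliceAt k X qW w hw) M₁ M₂
    obtain ⟨u₁⟩ := PicBdd.nonempty_fibreMod_pullback k (X := X) (pullback.fst q q') (q' := qW) rfl w hw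
      (by rw [h1]; exact ha) M
    obtain ⟨u₂⟩ := PicBdd.nonempty_fibreMod_pullback k (X := X) (pullback.snd q q') hW w hw
      (by rw [h2]; exact hb) M'
    obtain ⟨v₁⟩ := congr_pt q (w ≫ pullback.fst q q') a (by rw [h1]; exact ha) ha M h1
    obtain ⟨v₂⟩ := congr_pt q' (w ≫ pullback.snd q q') b (by rw [h2]; exact hb) hb M' h2
    exact ⟨w, hw, ⟨u.symm ≪≫ PicGrp.tensorModIso (u₁ ≪≫ v₁ ≪≫ eA) (u₂ ≪≫ v₂ ≪≫ eB)⟩⟩
  obtain ⟨w, hw, hwi⟩ := key t ht s hs L L' e f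
  obtain ⟨w₀, hw₀, ⟨i₀⟩⟩ := key t₀ ht₀ s₀ hs₀ _ _ e₀ f₀
  exact ⟨W, qW, inferInstance, inferInstance, inferInstance, CohB1.tensorMod M₁ M₂,
    TMul.isInvertible_tensorMod (PicLoc.isInvertible_pullback _ hM) (PicLoc.isInvertible_pullback _ hM'),
    w, w₀, hw, hw₀, hwi, ⟨i₀ ≪≫ TMul.leftUnitIso _⟩⟩

end Groth.Agent.AlgEquivCurve
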