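import Groth.Agent.AlgEquivCurve.Diag
import Groth.Agent.AlgEquivCurve.Group
import Groth.Agent.Nakai.AlgEquiv
import Groth.Agent.CurveOmega.RatPt
import Groth.Agent.W7Hull.InvDual

/-!
On a smooth proper curve over an algebraically closed field, algebraic equivalence to zero is degree zero.
-/

set_option autoImplicit false
set_option linter.style.haveILetI false
set_option backward.isDefEq.respectTransparency false
set_option backward.isDefEq.respectTransparency.types false

universe u

open CategoryTheory CategoryTheory.Limits AlgebraicGeometry TopologicalSpace Opposite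
open Groth.Agent Groth.Agent.CohFinite Groth.Agent.CurveRR
open Groth.Agent.QC (res res_self)
open TMul (IsGen homOf val_homOf)

noncomputable section

namespace Groth.Agent.AlgEquivCurve

attribute [local instance] Nakai.clMonoid secMod

variable {k : Type u} [Field k] {C : Scheme.{u}} [C.Over (Spec (CommRingCat.of k))]
  [IsProper (C ↘ Spec (CommRingCat.of k))] [IsIntegral C]

/-- A section of an invertible module of positive degree vanishes at a closed point. -/
theorem exists_zero_of_section {L : C.Modules} (hdeg : 0 < Curv2.deg k C L 1) (s : Coh.structureModule C ⟶ L) :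
    ∃ P : C, IsClosed ({P} : Set C) ∧ P ∉ CohB1.genLocus L s := by
  haveI := isNoetherian_of_proper k C
  obtain ⟨x, hx⟩ : ∃ x, x ∉ CohB1.genLocus L s := by
    by_contra! hall
    have hg : IsGen (TMul.val s ⊤) := by
      have h := TMul.isGen_genLocus s
      rwa [show CohB1.genLocus L s = ⊤ from top_le_iff.mp fun x _ => hall x] at h
    haveI : IsIso s := GrT.isIso_of_locally s
      (fun U a b hab => (hg U le_top).1 (by
        simpa only [TMul.app_eq_smul, TMul.res_val] using hab))
      fun U t x hx => ⟨U, le_rfl, hx, by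
        obtain ⟨a, ha⟩ := (hg U le_top).2 t
        exact ⟨a, by rw [res_self, TMul.app_eq_smul, ← ha]; simp only [TMul.res_val]⟩⟩
    rw [Curv2.deg, ← euler_eq_of_iso (k := k) (asIso s)] at hdeg
    push_cast at hdeg
    omega
  obtain ⟨P, hPx, hPc⟩ := (isClosed_closure (s := ({x} : Set C))).exists_closed_singleton ⟨x, subset_closure rfl⟩
  exact ⟨P, hPc, fun hP => hx ((specializes_iff_mem_closure.mpr hPx).mem_open (CohB1.genLocus L s).2 hP)⟩

variable [IsAlgClosed k] [Smooth (C ↘ Spec (CommRingCat.of k))]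

/-- An effective class minus multiples of a point. -/
theorem isAlgEquivZero_effective (hdim : topologicalKrullDim C = 1) (P₀ : C) (hP₀ : IsClosed ({P₀} : Set C)) :
    ∀ (n : ℕ) (M : C.Modules), PicF.IsInvertible M → Curv2.deg k C M 1 = n → h k M 0 ≠ 0 →
      Pic13.IsAlgEquivZero k C (CohB1.tensorMod M
        (CohB1.tensorPow (ClSub.idealMod (Scheme.IdealSheafData.vanishingIdeal ⟨{P₀}, hP₀⟩)) n)) := by
  haveI := isNoetherian_of_proper k C
  have hinvI : ∀ (R : C) (hR : IsClosed ({R} : Set C)),
      PicF.IsInvertible (ClSub.idealMod (Scheme.IdealSheafData.vanishingIdeal ⟨{R}, hR⟩)) := fun R hR =>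
    isInvertible_pointIdeal hdim.le hR (genericPoint_ne_of_closed (k := k) hdim hR)
      (SmLocalST.isRegularLocalRing_stalk_of_smooth_field (C ↘ Spec (CommRingCat.of k)) R)
  let I₀ := ClSub.idealMod (Scheme.IdealSheafData.vanishingIdeal ⟨{P₀}, hP₀⟩)
  intro n
  induction n with
  | zero =>
    intro M hM hd hh
    obtain ⟨s, hs⟩ := exists_section (k := k) hh
    obtain ⟨-, hiso⟩ := deg_le_and_isIso (k := k) hdim.le TMul.isInvertible_structureModule hM s hs
    haveI := hiso (by rw [hd, deg_structure]; rfl)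
    refine isAlgEquivZero_congr (Nakai.iso_of_cl ?_).some (PicBdd.isAlgEquivZero_of_iso k (Iso.refl _))
    rw [Nakai.cl_tensor, Nakai.cl_pow, pow_zero, mul_one]
    exact (PicGrp.cl_eq_cl_iff _ _).2 ⟨asIso s⟩
  | succ n ih =>
    intro M hM hd hh
    obtain ⟨s, hs⟩ := exists_section (k := k) hh
    obtain ⟨P, hP, hPs⟩ := exists_zero_of_section (L := M) (by rw [hd]; positivity) s
    let I := Scheme.IdealSheafData.vanishingIdeal ⟨{P}, hP⟩
    let t := TMul.val s ⊤
    have hts : homOf t = s := TMul.hom_ext_val (val_homOf t ⊤ |>.trans (res_self _ _ _))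
    obtain ⟨u, hu⟩ := mem_range_idealIncl hM ⟨{P}, hP⟩ t fun z hz => by
      rw [Set.mem_singleton_iff.mp hz, hts]; exact hPs
    have hu0 : u ≠ 0 := fun e => hs (by
      rw [← hts, ← hu, e, map_zero]
      exact TMul.hom_ext_val (by rw [val_homOf, map_zero]; rfl))
    have hN := TMul.isInvertible_tensorMod (hinvI P hP) hM
    have hdN : Curv2.deg k C (CohB1.tensorMod (ClSub.idealMod I) M) 1 = n := by
      rw [Curv2.deg, euler_ideal_tensor (k := k) hM I (point_dim hP), h0_quotMod_point hP]
      rw [Curv2.deg] at hd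
      push_cast at hd ⊢
      omega
    have hhN : h k (CohB1.tensorMod (ClSub.idealMod I) M) 0 ≠ 0 := by
      haveI := finite_proper k C _ (isCoh_of_inv hN) 0
      haveI : Module.Finite k Γ(CohB1.tensorMod (ClSub.idealMod I) M, ⊤) :=
        Module.Finite.equiv (secH0 (k := k) (CohB1.tensorMod (ClSub.idealMod I) M)).symm
      rw [← finrank_sec]
      exact fun h => hu0 ((Module.finrank_zero_iff.mp h).elim u 0)
    obtain ⟨J, hJ, ⟨θ⟩⟩ := W7Hull.exists_tensor_inverse (hinvI P hP)
    refine isAlgEquivZero_congr (Nakai.iso_of_cl ?_).some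
      (isAlgEquivZero_tensor (ih _ hN hdN hhN) (isAlgEquivZero_point_sub_point hdim P P₀ hP hP₀ hJ θ))
    simp only [Nakai.cl_tensor, Nakai.cl_pow, pow_succ]
    rw [show ∀ a b c d e : PicF.Cl C, a * b * c * (d * e) = (a * e) * (b * (c * d)) from fun a b c d e => by
      simp only [mul_assoc, mul_left_comm, mul_comm], Nakai.cl_inv ⟨θ⟩, one_mul]

/-- Degree zero classes are algebraically equivalent to zero. -/
theorem isAlgEquivZero_of_deg_zero (hdim : topologicalKrullDim C = 1) (P₀ : C) (hP₀ : IsClosed ({P₀} : Set C))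
    {L : C.Modules} (hL : PicF.IsInvertible L) (hdeg : Curv2.deg k C L 1 = 0) : Pic13.IsAlgEquivZero k C L := by
  haveI := isNoetherian_of_proper k C
  have h0 := CurveRR.h0_structure k C
  set I₀ := ClSub.idealMod (Scheme.IdealSheafData.vanishingIdeal ⟨{P₀}, hP₀⟩) with hI₀def
  have hI₀ : PicF.IsInvertible I₀ := isInvertible_pointIdeal hdim.le hP₀ (genericPoint_ne_of_closed (k := k) hdim hP₀)
    (SmLocalST.isRegularLocalRing_stalk_of_smooth_field (C ↘ Spec (CommRingCat.of k)) P₀)
  obtain ⟨J, hJ, ⟨θ⟩⟩ := W7Hull.exists_tensor_inverse hI₀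
  have hdJ : Curv2.deg k C J 1 = 1 := by
    have he := euler_ideal_tensor (k := k) hJ _ (point_dim hP₀)
    rw [h0_quotMod_point hP₀, euler_eq_of_iso θ] at he
    rw [Curv2.deg]; push_cast at *; omega
  set g := Curv2.genus k C
  let M := CohB1.tensorMod L (CohB1.tensorPow J (2 * g))
  have hM : PicF.IsInvertible M := TMul.isInvertible_tensorMod hL (TMul.isInvertible_tensorPow hJ _)
  have hdM : Curv2.deg k C M 1 = ((2 * g : ℕ) : ℤ) := by
    rw [deg_tensor_inv hdim.le hL (TMul.isInvertible_tensorPow hJ _), hdeg, deg_tensorPow hdim.le hJ, hdJ]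
    push_cast; ring
  have hhM : h k M 0 ≠ 0 := by
    have := h0_eq_of_deg (k := k) hdim.le h0 hM (by rw [hdM]; push_cast; omega)
    omega
  refine isAlgEquivZero_congr (Nakai.iso_of_cl ?_).some (isAlgEquivZero_effective hdim P₀ hP₀ (2 * g) M hM hdM hhM)
  simp only [M, Nakai.cl_tensor, Nakai.cl_pow]
  rw [mul_assoc, ← mul_pow, mul_comm (PicF.cl J), Nakai.cl_inv ⟨θ⟩, one_pow, mul_one]

theorem isAlgEquivZero_iff_deg (hdim : topologicalKrullDim C = 1) (P₀ : C) (hP₀ : IsClosed ({P₀} : Set C))
    {L : C.Modules} (hL : PicF.IsInvertible L) : Pic13.IsAlgEquivZero k C L ↔ Curv2.deg k C L 1 = 0 := by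
  refine ⟨fun h => ?_, isAlgEquivZero_of_deg_zero hdim P₀ hP₀ hL⟩
  have h1 := Nakai.euler_algEquivZero k h (F := Coh.structureModule C) (isCoh_of_inv TMul.isInvertible_structureModule)
  rw [euler_eq_of_iso (TMul.leftUnitIso L)] at h1
  rw [Curv2.deg, h1]
  push_cast
  ring

end Groth.Agent.AlgEquivCurve
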